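import Cfsg.Agent.H964.Rg.Ctx

/-!
# S3691-T14a: `full_conj`, `minus_opp` (helper119, task 6355)
-/

set_option autoImplicit false
set_option linter.unusedSectionVars false

namespace Cfsg.Agent.H119.Rg

open Module QuadraticMap Cfsg Cfsg.Geo Cfsg.Agent.LieClassical.OrthCore Cfsg.Agent.LieClassical.OrthTrans
  Cfsg.Agent.H454.Reg Cfsg.Agent.H884.El Cfsg.Agent.H955 Cfsg.Agent.H954.TSing Cfsg.Agent.H193.Dg Cfsg.Agent.H851.Dg
  Cfsg.Agent.H449.Reg Cfsg.Agent.H964.Rg
open Cfsg.Agent.H951 (fx cm Inv)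
open Cfsg.Agent.H278.Cov (Red Ext Num)
open Cfsg.Agent.LieClassical.OrthFinite (glEquiv glEquiv_apply)
open scoped MatrixGroups Matrix

universe u v

/-- a subgroup with the full `r`-part contains conjugates of all `r`-elements -/
theorem exists_conj_of_val {T : Type*} [Group T] [Finite T] {Z : Subgroup T} {r : ℕ} (hr : r.Prime)
    (hv : (Nat.card Z).factorization r = (Nat.card T).factorization r) {t : T} {a : ℕ} (ht : t ^ r ^ a = 1) :
    ∃ c : T, c * t * c⁻¹ ∈ Z := by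
  have := Fact.mk hr
  obtain ⟨S⟩ : Nonempty (Sylow r Z) := inferInstance
  have hcard : Nat.card ((S : Subgroup Z).map Z.subtype) = r ^ (Nat.card T).factorization r := by
    rw [Subgroup.card_map_of_injective Z.subtype_injective, ← hv]
    exact S.card_eq_multiplicity
  have ht' : IsPGroup r (Subgroup.zpowers t) := by
    obtain ⟨k, -, hk⟩ := (Nat.dvd_prime_pow hr).1 (orderOf_dvd_of_pow_eq_one ht)
    apply IsPGroup.of_card (n := k)
    rw [Nat.card_zpowers]
    exact hk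
  obtain ⟨P, hP⟩ := ht'.exists_le_sylow
  obtain ⟨c, hc⟩ := MulAction.exists_smul_eq T P (Sylow.ofCard _ hcard)
  refine ⟨c, ?_⟩
  have h1 : c * t * c⁻¹ ∈ ((c • P : Sylow r T) : Subgroup T) := by
    rw [Sylow.coe_subgroup_smul]
    exact ⟨t, hP (Subgroup.mem_zpowers t), rfl⟩
  rw [hc] at h1
  obtain ⟨s, -, hs⟩ := h1
  rw [← hs]
  exact s.2

section cx

variable {ι : Type} [Fintype ι] [DecidableEq ι] {F : Type v} [Field F] [Fintype F] {Q : QuadraticForm F (ι → F)}
variable {G : Type u} [Group G] [Finite G] {T : Subgroup G} [T.Normal] {hG : Good Q} {eT : T ≃* POmega F (⇑Q)}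
  {hI : Ind (eP hG eT)} {X Y : Subgroup G} {p f m N : ℕ}

/-- (T14.1) a prime which does not divide the order of one factor: the other one contains conjugates of all elements -/
theorem full_conj (hf : Fac T X Y) (hD : H390.Lift.Data Q) {r : ℕ} (hr : r.Prime) (hr2 : r ≠ 2)
    (ho : ¬ r ∣ Nat.card (Cfsg.Out T)) (hX : ¬ r ∣ Nat.card (X.subgroupOf T))
    {g : GL ι F} (hg : g ∈ isometryGroup F (⇑Q)) (hgr : g ^ r = 1) :
    ∃ c : GL ι F, c * g * c⁻¹ ∈ preG eT Y := by
  obtain ⟨x, rfl⟩ := exists_omega hD hg (hr.odd_of_ne_two hr2) hgr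
  have hx : x ^ r = 1 := Subtype.ext (Subtype.ext hgr)
  have hv := hf.val_eq ho
  rw [Nat.factorization_eq_zero_of_not_dvd hX, zero_add] at hv
  obtain ⟨c, hc⟩ := exists_conj_of_val hr hv (t := eT.symm (QuotientGroup.mk x)) (a := 1) (by
    rw [pow_one, ← map_pow, ← QuotientGroup.mk_pow, hx, QuotientGroup.mk_one, map_one])
  obtain ⟨y, hy⟩ := QuotientGroup.mk_surjective (eT c)
  have hc' : c = eT.symm (QuotientGroup.mk y) := by rw [hy, eT.symm_apply_apply]
  refine ⟨((y : isometryGroup F (⇑Q)) : GL ι F), ?_⟩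
  have h1 : ((y * x * y⁻¹ : Omega F (⇑Q)) : isometryGroup F (⇑Q)).1 ∈ preG eT Y := by
    rw [mem_preG]
    rw [Subgroup.mem_subgroupOf] at hc
    have e1 : eT.symm (QuotientGroup.mk (y * x * y⁻¹)) = c * eT.symm (QuotientGroup.mk x) * c⁻¹ := by
      rw [hc', ← map_inv, ← map_mul, ← map_mul]
      rfl
    rw [e1]
    exact hc
  exact h1

/-- (T14.2) minus type: a factor fixing a singular vector (or a hyperbolic plane) does not contain the full `r`-part -/
theorem minus_opp (h : Cx hI X Y p f m (2 * m)) (hm : 5 ≤ m) (hmin : ¬ IsPlus Q)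
    {S : Submodule F (ι → F)} {x : ι → F} (hx : Q x = 0) (hx0 : x ≠ 0) (hxS : x ∈ S) (hS2 : finrank F S ≤ 2)
    (hYS : preG eT Y ≤ subspaceStabilizer S) {e r : ℕ} (he3 : 3 ≤ e) (hem : e ∣ m - 1) (hr : PP (Nat.card F) e r)
    (ho : ¬ r ∣ Nat.card (Cfsg.Out T)) : r ∣ Nat.card (X.subgroupOf T) := by
  by_contra hX
  have := Fact.mk hr.prime
  have hQ : Nondeg Q := hG.nondeg
  have hn := h.dim
  have hev : Even (Fintype.card ι) := by rw [hn]; exact even_two_mul m
  have hr2 : r ≠ 2 := by have := hr.lt (by omega); omega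
  obtain ⟨k, hk⟩ := hem
  have hk1 : 1 ≤ k := by
    rcases Nat.eq_zero_or_pos k with rfl | h0
    · omega
    · exact h0
  -- an element with `dim [V, g] = 2 (m - 1)`
  have key : ∃ g ∈ isometryGroup F (⇑Q), g ^ r = 1 ∧ g ≠ 1 ∧ finrank F (cm (lin g)) = 2 * (m - 1) := by
    rcases Nat.even_or_odd e with he | he
    · have e1 : e * (2 * k) = 2 * (m - 1) := by rw [hk]; ring
      obtain ⟨g, h1, h2, h3, h4⟩ := exists_g (A := 2 * k) hQ hr he (by omega) (by omega)
        (Or.inl ⟨hev, Or.inl (by rw [e1, hn]; omega)⟩)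
      exact ⟨g, h1, h2, h3, by rw [h4, e1]⟩
    · have e1 : 2 * (e * k) = 2 * (m - 1) := by rw [hk]
      obtain ⟨g, h1, h2, h3, h4⟩ := exists_g_odd (A := k) hQ hr he (by omega) (by omega)
        (Or.inl ⟨hev, Or.inl (by rw [e1, hn]; omega)⟩)
      exact ⟨g, h1, h2, h3, by rw [h4, e1]⟩
  obtain ⟨g, hg, hgr, hg1, hgd⟩ := key
  obtain ⟨c, hc⟩ := full_conj (eT := eT) h.fac h.data hr.prime hr2 ho hX hg hgr
  have hcr : (c * g * c⁻¹) ^ r = 1 := by rw [conj_pow, hgr, mul_one, mul_inv_cancel]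
  have hx' : lin (c * g * c⁻¹) ^ r = 1 := by rw [← H251.GeoCard.toLin_pow, hcr]; exact lin_one
  have hiso : Iso Q (lin (c * g * c⁻¹)) r := Iso.mk' hr (by omega) hx' (lin_iso preG_le hc)
  have hd : finrank F (cm (lin (c * g * c⁻¹))) = 2 * (m - 1) := by rw [finrank_cm_conj, hgd]
  -- the type of `[V, g]`
  have hPl : IsPlus (res Q (cm (lin (c * g * c⁻¹)))) := by
    rcases Nat.even_or_odd e with he | he
    · rw [isPlus_cm_iff hiso.two_lt hQ hiso.iso hiso.ne0 hiso.pow (ord_eq hr) he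
        (A := 2 * k) (by rw [hd, hk]; ring)]
      exact even_two_mul k
    · have ho' : Odd (orderOf (Fintype.card F : ZMod r)) := by rw [ord_eq hr]; exact he
      obtain ⟨A, hA, hP, -⟩ := exists_inv_ts_of_odd hiso.two_lt hiso.ne0 ho' hQ hiso.iso hiso.pow
      exact hP
  have hadd := hiso.finrank_add
  rw [finrank_V, hd, hn] at hadd
  have hfx : finrank F (fx (lin (c * g * c⁻¹))) = 2 := by omega
  have hnp : ¬ IsPlus (res Q (fx (lin (c * g * c⁻¹)))) := by
    intro h1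
    apply hmin
    rw [hiso.isPlus_fx hQ (by rw [finrank_V]; exact hev) (by rw [hd]; exact even_two_mul _)]
    exact iff_of_true hPl h1
  have hle := hiso.le_fx hr (inv_of_mem (hYS hc)) (by omega)
  exact hx0 (aniso_of_not_plus hfx hnp (hle hxS) hx)

end cx

end Cfsg.Agent.H119.Rg
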