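import Cfsg.Agent.H119.Rg.ReeCent
import Cfsg.Agent.H119.Rg.ReePoly
import Cfsg.Agent.H119.Rg.PolyArg
import Cfsg.Agent.H141.Rg.Defs
import Cfsg.Agent.H588.PQR.Ratio
import Cfsg.Agent.H122.Cyc.ReeRow
import Cfsg.Agent.H514.DP.Core

/-!
# S5714, task X9: the small Ree groups (helper119)

`rat_ree`, `ord_ree`.
-/

set_option autoImplicit false
set_option linter.unusedSectionVars false

namespace Cfsg.Agent.H119.Rg

open Cfsg Cfsg.Agent.OrdDiv Cfsg.Agent.H436 Cfsg.Agent.H141.Rg Subgroup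

/-- `|χ(z)| ≤ √c ≤ ρ b ≤ ρ χ(1)` -/
theorem rat_of {T : Type} [Group T] [Finite T] (hperf : commutator T = ⊤) {b c : ℕ} (hdeg : H122.MinDeg T b) {z : T}
    (hc : Nat.card (centralizer {z} : Subgroup T) ≤ c) {ρ : ℝ} (hρ : 0 ≤ ρ) (h : √(c : ℝ) ≤ ρ * b) : Rat ρ z := by
  intro χ hχ hne
  have h1 : χ 1 ≠ 1 := by
    intro h2
    obtain ⟨g, hg⟩ := hne
    apply hg
    rw [H514.DP.eq_one_of_perf hperf hχ h2]
    rfl
  have h2 : H514.DP.MinDeg T b := by
    intro n ρ' hρ' hn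
    exact hdeg.irr n ρ' hρ' hn
  obtain ⟨n, hn, -, hn1⟩ := H514.DP.MinDeg.le h2 hχ h1
  have h3 := H588.Ratio.norm_le_sqrt hχ z
  have h4 : (b : ℝ) ≤ (χ 1).re := by
    rw [hn1, Complex.natCast_re]
    exact_mod_cast hn
  calc ‖χ z‖ ≤ √(Nat.card (centralizer ({z} : Set T)) : ℝ) := h3
    _ ≤ √(c : ℝ) := Real.sqrt_le_sqrt (by exact_mod_cast hc)
    _ ≤ ρ * b := h
    _ ≤ ρ * (χ 1).re := mul_le_mul_of_nonneg_left h4 hρ

theorem num {q : ℕ} (hq : 1 ≤ q) : √((8 * q ^ 3 : ℕ) : ℝ) ≤ 6 / (q : ℝ) ^ (1 / 4 : ℝ) * ((q ^ 2 - q + 1 : ℕ) : ℝ) := by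
  have hq0 : (0 : ℝ) ≤ q := Nat.cast_nonneg _
  have hq1 : (1 : ℝ) ≤ q := by exact_mod_cast hq
  obtain ⟨x, hx⟩ : ∃ x : ℝ, x = (q : ℝ) ^ (1 / 4 : ℝ) := ⟨_, rfl⟩
  have hx4 : x ^ 4 = q := by
    rw [hx, ← Real.rpow_natCast, ← Real.rpow_mul hq0]
    norm_num
  have hx1 : 1 ≤ x := by
    rw [hx]
    exact Real.one_le_rpow hq1 (by norm_num)
  rw [← hx]
  have e1 : ((q ^ 2 - q + 1 : ℕ) : ℝ) = x ^ 8 - x ^ 4 + 1 := by
    have h1 : q ≤ q ^ 2 := Nat.le_self_pow (by norm_num) q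
    rw [Nat.cast_add, Nat.cast_sub h1, Nat.cast_pow, ← hx4, Nat.cast_one]
    ring
  rw [e1]
  have hx0 : 0 < x := by linarith
  rw [div_mul_eq_mul_div, le_div_iff₀ hx0]
  have h1 : √((8 * q ^ 3 : ℕ) : ℝ) ≤ 3 * x ^ 6 := by
    apply Real.sqrt_le_iff.2
    refine ⟨by positivity, ?_⟩
    push_cast
    rw [← hx4]
    have : 0 ≤ x ^ 12 := by positivity
    nlinarith
  have h2 : √((8 * q ^ 3 : ℕ) : ℝ) * x ≤ 3 * x ^ 6 * x := mul_le_mul_of_nonneg_right h1 hx0.le
  have h3 : 3 * x ^ 6 * x ≤ 3 * x ^ 8 := by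
    have : x ^ 7 ≤ x ^ 8 := pow_le_pow_right₀ hx1 (by norm_num)
    nlinarith
  nlinarith [sq_nonneg (x ^ 4 - 1)]

theorem rat_ree : ∃ C : ℝ, ∀ (q : ℕ) (T : Type) [Group T] [Finite T], IsNamed (.ree q) T →
    ∀ z : T, z ≠ 1 → Rat (C / (q : ℝ) ^ (1 / 4 : ℝ)) z := by
  refine ⟨6, fun q T _ _ hT z hz => ?_⟩
  obtain ⟨K, _, _, m, hm, hK, hq, ⟨e⟩⟩ := hT.real
  rw [hq] at hK
  have hperf : commutator T = ⊤ := by
    have h1 := Cfsg.Agent.S1116.result hK hm
    have h2 : (commutator ↥(Cfsg.Lie.twistedG2 K (3 ^ m))).map e.symm.toMonoidHom = commutator T := by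
      rw [commutator_def, map_commutator, commutator_def]
      have h3 : (⊤ : Subgroup ↥(Cfsg.Lie.twistedG2 K (3 ^ m))).map e.symm.toMonoidHom = ⊤ := by
        rw [← MonoidHom.range_eq_map]
        exact MonoidHom.range_eq_top.2 e.symm.surjective
      rw [h3]
    rw [← h2, h1, ← MonoidHom.range_eq_map]
    exact MonoidHom.range_eq_top.2 e.symm.surjective
  have hdeg : H122.MinDeg T (q ^ 2 - q + 1) := by
    rw [hq]
    exact (H122.Cyc.minDeg_ree m hm hK).congr e.symm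
  have hq1 : 1 ≤ q := by rw [hq]; exact Nat.one_le_pow _ _ (by norm_num)
  have hc : Nat.card (centralizer {z} : Subgroup T) ≤ 8 * q ^ 3 := by
    have h1 := card_cent_ree hm hK (e z) (fun h => hz (by rw [← map_one e] at h; exact e.injective h))
    rw [← hq] at h1
    refine le_trans (le_of_eq ?_) h1
    refine Nat.card_congr
      { toFun := fun y => ⟨e y, mem_centralizer_singleton_iff.2 ?_⟩
        invFun := fun y => ⟨e.symm y, mem_centralizer_singleton_iff.2 ?_⟩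
        left_inv := fun y => Subtype.ext (e.symm_apply_apply _)
        right_inv := fun y => Subtype.ext (e.apply_symm_apply _) }
    · rw [← map_mul, mem_centralizer_singleton_iff.1 y.2, map_mul]
    · apply e.injective
      rw [map_mul, map_mul, e.apply_symm_apply]
      exact mem_centralizer_singleton_iff.1 y.2
  exact rat_of hperf hdeg hc (by positivity) (num hq1)

/-- the 7-dimensional representation -/
noncomputable def rep7 {K : Type} [Field K] [Fintype K] {m : ℕ} (hK : Fintype.card K = 3 ^ (2 * m + 1)) :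
    ↥(Cfsg.Lie.twistedG2 K (3 ^ m)) →* Matrix (Fin 7) (Fin 7) K where
  toFun := LieRecognition.ReeData.bl
  map_one' := H147.ReeTrace.bl_one hK
  map_mul' := LieRecognition.ReeData.bl_mul hK

theorem ordData_ree {K : Type} [Field K] [Fintype K] {m : ℕ} (hm : 1 ≤ m) (hK : Fintype.card K = 3 ^ (2 * m + 1))
    {T : Type} [Group T] [Finite T] (e : T ≃* ↥(Cfsg.Lie.twistedG2 K (3 ^ m))) :
    OrdData T (3 ^ (2 * m + 1)) (1 / 2) 2 := by
  have D := Cfsg.Agent.LieRecognition.ReeFinal.data hK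
  have hfin : Finite ↥(Cfsg.Lie.twistedG2 K (3 ^ m)) := Finite.of_equiv T e.toEquiv
  have hR : ∀ g : T, ((rep7 hK).comp e.toMonoidHom) g = LieRecognition.ReeData.bl (e g) := fun g => rfl
  refine ⟨K, inferInstance, fun v => e.symm (LieRecognition.ReeData.U m 0 0 v),
    {g | LieRecognition.ReeData.bl (e g) 0 6 ≠ 0}, 2 * 3 ^ m, ?_, ?_, ?_, ?_, ?_⟩
  · intro v w hvw
    have h1 := e.symm.injective hvw
    have h2 := D.inj₁ 0 0 v 1 0 0 w 1 (by rw [h1])
    exact h2.2.2.1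
  · rw [Nat.card_eq_fintype_card, hK]
  · -- the complement is contained in the Borel subgroup
    classical
    have hle : Nat.card {g : T // ¬ LieRecognition.ReeData.bl (e g) 0 6 ≠ 0} ≤ (3 ^ (2 * m + 1)) ^ 3 * (3 ^ (2 * m + 1) - 1) := by
      have hinj : Nat.card {g : T // ¬ LieRecognition.ReeData.bl (e g) 0 6 ≠ 0} ≤ Nat.card ((K × K × K) × Kˣ) := by
        refine Nat.card_le_card_of_surjective (fun p : (K × K × K) × Kˣ =>
          if h : ¬ LieRecognition.ReeData.bl (LieRecognition.ReeData.U m p.1.1 p.1.2.1 p.1.2.2 *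
              LieRecognition.ReeData.h hK p.2) 0 6 ≠ 0 then
            (⟨e.symm (LieRecognition.ReeData.U m p.1.1 p.1.2.1 p.1.2.2 * LieRecognition.ReeData.h hK p.2), by
              rw [e.apply_symm_apply]; exact h⟩ : {g : T // ¬ LieRecognition.ReeData.bl (e g) 0 6 ≠ 0})
          else ⟨1, by
            rw [map_one, H147.ReeTrace.bl_one hK]
            simp⟩) ?_
        rintro ⟨g, hg⟩
        rcases D.bruhat (e g) with ⟨t, u, v, a, h⟩ | ⟨t, u, v, a, t', u', v', h⟩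
        · refine ⟨((t, u, v), a), ?_⟩
          have hg' : ¬ LieRecognition.ReeData.bl (LieRecognition.ReeData.U m t u v *
              LieRecognition.ReeData.h hK a) 0 6 ≠ 0 := by rw [← h]; exact hg
          simp only
          rw [dif_pos hg']
          apply Subtype.ext
          show e.symm (_ * _) = g
          rw [← h, e.symm_apply_apply]
        · exfalso
          apply hg
          rw [h, LieRecognition.ReeData.bl_big hK]
          exact neg_ne_zero.2 (LieRecognition.ReeData.dA_ne hK a 0)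
      refine hinj.trans (le_of_eq ?_)
      rw [Nat.card_prod, Nat.card_prod, Nat.card_prod, Nat.card_eq_fintype_card, Nat.card_eq_fintype_card,
        Fintype.card_units, hK]
      ring
    have hT : Nat.card T = (3 ^ (2 * m + 1)) ^ 3 * (3 ^ (2 * m + 1) - 1) * ((3 ^ (2 * m + 1)) ^ 3 + 1) := by
      rw [Nat.card_congr e.toEquiv]
      exact Cfsg.Agent.LieRecognition.ReeFinal.card hK
    have hsum : Nat.card {g : T // LieRecognition.ReeData.bl (e g) 0 6 ≠ 0} +
        Nat.card {g : T // ¬ LieRecognition.ReeData.bl (e g) 0 6 ≠ 0} = Nat.card T := by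
      rw [← Nat.card_sum]
      exact Nat.card_congr (Equiv.sumCompl _)
    have h2 : Nat.card T ≤ 2 * Nat.card {g : T // LieRecognition.ReeData.bl (e g) 0 6 ≠ 0} := by
      have h3 : 1 ≤ (3 ^ (2 * m + 1)) ^ 3 := Nat.one_le_pow _ _ (by positivity)
      generalize (3 ^ (2 * m + 1)) ^ 3 * (3 ^ (2 * m + 1) - 1) = B at hle hT
      have h4 : 2 * B ≤ Nat.card T := by
        rw [hT, mul_comm 2]
        exact Nat.mul_le_mul_left _ (by omega)
      omega
    have h3 : (Nat.card T : ℝ) ≤ 2 * Nat.card {g : T // LieRecognition.ReeData.bl (e g) 0 6 ≠ 0} := by exact_mod_cast h2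
    have h4 : Nat.card ({g | LieRecognition.ReeData.bl (e g) 0 6 ≠ 0} : Set T) =
      Nat.card {g : T // LieRecognition.ReeData.bl (e g) 0 6 ≠ 0} := rfl
    rw [h4]
    linarith
  · have h1 : (3 : ℝ) ^ m ≤ √((3 ^ (2 * m + 1) : ℕ) : ℝ) := by
      apply Real.le_sqrt_of_sq_le
      push_cast
      rw [← pow_mul]
      exact pow_le_pow_right₀ (by norm_num) (by omega)
    push_cast at h1 ⊢
    linarith
  · intro g hg k hk
    refine card_pow_le ((rep7 hK).comp e.toMonoidHom) (fun v => e.symm (LieRecognition.ReeData.U m 0 0 v)) id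
      Function.injective_id (PP K m) (D := 2 * 3 ^ m) (by have := Nat.one_le_pow m 3 (by norm_num); omega) PP_deg ?_ (i0 := 6) (j0 := 0)
      (PP_coeff hm) ?_ g ?_ k hk
    · intro s
      rw [hR, e.apply_symm_apply]
      exact PP_eval hK s
    · rw [PP_top]; simp
    · exact hg

theorem ord_ree : ∃ c0 D0 : ℝ, 0 < c0 ∧ ∀ (q : ℕ) (T : Type) [Group T] [Finite T], IsNamed (.ree q) T →
    OrdData T q c0 D0 := by
  refine ⟨1 / 2, 2, by norm_num, fun q T _ _ hT => ?_⟩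
  obtain ⟨K, _, _, m, hm, hK, hq, ⟨e⟩⟩ := hT.real
  rw [hq] at hK ⊢
  exact ordData_ree hm hK e

end Cfsg.Agent.H119.Rg
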