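import Cfsg.Agent.H964.Rg.Slo
import Cfsg.Agent.H522.Rg.PolF
import Cfsg.Agent.H623.Rg.KillTwoB

/-!
# S3691-F: `plus_two_b` (helper119, task 6402)
-/

set_option autoImplicit false
set_option linter.unusedSectionVars false

namespace Cfsg.Agent.H119.Rg

open Module QuadraticMap Cfsg Cfsg.Geo Cfsg.Agent.LieClassical.OrthCore Cfsg.Agent.LieClassical.OrthTrans
  Cfsg.Agent.H454.Reg Cfsg.Agent.H884.El Cfsg.Agent.H955 Cfsg.Agent.H954.TSing Cfsg.Agent.H193.Dg Cfsg.Agent.H851.Dg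
  Cfsg.Agent.H449.Reg Cfsg.Agent.H964.Rg
open Cfsg.Agent.H951 (fx cm Inv)
open Cfsg.Agent.H278.Cov (Red Ext Num)
open scoped MatrixGroups Matrix

universe u v

variable {ι : Type} [Fintype ι] [DecidableEq ι] {F : Type v} [Field F] [Fintype F] {Q : QuadraticForm F (ι → F)}
variable {G : Type u} [Group G] [Finite G] {T : Subgroup G} [T.Normal] {hG : Good Q} {eT : T ≃* POmega F (⇑Q)}
  {hI : Ind (eP hG eT)} {X Y : Subgroup G} {p f m N : ℕ}

/-- the fixed plane of an element of order `r_{2m-2}` in the plus type space of dimension `2m` -/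
theorem plus_fx_even (hQ : Nondeg Q) (hn : finrank F (ι → F) = 2 * m) (hm : 5 ≤ m) (hP : IsPlus Q) {r : ℕ}
    (hr : PP (Nat.card F) (2 * m - 2) r) {x : GL ι F} (hx : Iso Q (lin x) r) (hx1 : x ≠ 1) :
    finrank F (cm (lin x)) = 2 * m - 2 ∧ finrank F (fx (lin x)) = 2 ∧ ¬ IsPlus (res Q (fx (lin x))) := by
  obtain ⟨hcm, hnp⟩ := hx.even_case hQ (lin_ne_one hx1) hr ⟨m - 1, by omega⟩ (by rw [hn]; omega)
  refine ⟨hcm, by have := hx.finrank_add; omega, fun h1 => hnp ?_⟩
  exact ((hx.isPlus_fx hQ (by rw [hn]; exact even_two_mul m) (by rw [hcm]; exact ⟨m - 1, by omega⟩)).1 hP).2 h1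

/-- the fixed plane of an element of order `r_{m-1}`, `m` even, in the plus type space of dimension `2m` -/
theorem plus_fx_odd (hQ : Nondeg Q) (hn : finrank F (ι → F) = 2 * m) (hm : 6 ≤ m) (hme : Even m) (hP : IsPlus Q) {r : ℕ}
    (hr : PP (Nat.card F) (m - 1) r) {x : GL ι F} (hx : Iso Q (lin x) r) (hx1 : x ≠ 1) :
    finrank F (fx (lin x)) = 2 ∧ IsPlus (res Q (fx (lin x))) := by
  have hm1 : Odd (m - 1) := Nat.Even.sub_odd (by omega) hme odd_one
  obtain ⟨hcm, hp, -⟩ := hx.odd_case hQ (lin_ne_one hx1) hr hm1 (by rw [hn]; omega)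
  refine ⟨by have := hx.finrank_add; omega, ?_⟩
  exact ((hx.isPlus_fx hQ (by rw [hn]; exact even_two_mul m) (by rw [hcm]; exact even_two_mul _)).1 hP).1 hp

/-- the section groups of a nonsingular point, `q` even, are irreducible -/
theorem line_irr (hQ : Nondeg Q) {v : ι → F} {r k : ℕ} (hM : Mx hI X (F ∙ v) k) (hr : PP (Nat.card F) k r) (hk : 2 ≤ k)
    (hn : Fintype.card ι < 2 * k) {x : GL ι F} (hx : x ∈ preG eT X) (hxr : x ^ r = 1) (hx1 : x ≠ 1)
    (hiso : Iso Q (lin x) r) (hvx : v ∈ fx (lin x)) (hS : Sec Q (preG eT X) (cm (lin x)) (F ∙ v))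
    (hU : cm (lin x) ⊔ (F ∙ v) = perp Q (F ∙ v)) : ¬ RedV (secG hS) := by
  refine hS.irr hQ hr hk hn hx hxr hx1 hU hM.max fun u hu huv => ?_
  have hc := H951.isCompl_fx_cm hiso.ne0 hiso.pow
  have h1 : u ∈ fx (lin x) ⊓ cm (lin x) := ⟨(Submodule.span_singleton_le_iff_mem v _).2 hvx huv, hu⟩
  rw [hc.inf_eq_bot, Submodule.mem_bot] at h1
  exact h1

/-- the section groups of a nonsingular point, `q` odd, are irreducible -/
theorem perp_irr (hQ : Nondeg Q) (h2 : (2 : F) ≠ 0) {v : ι → F} (hv : Q v ≠ 0) {r k : ℕ} (hM : Mx hI X (F ∙ v) k)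
    (hr : PP (Nat.card F) k r) (hk : 2 ≤ k)
    (hn : Fintype.card ι < 2 * k) {x : GL ι F} (hx : x ∈ preG eT X) (hxr : x ^ r = 1) (hx1 : x ≠ 1)
    (hS : Sec Q (preG eT X) (perp Q (F ∙ v)) ⊥) : ¬ RedV (secG hS) := by
  refine hS.irr hQ hr hk hn hx hxr hx1 (sup_bot_eq _) hM.max fun u hu huv => ?_
  obtain ⟨c, rfl⟩ := Submodule.mem_span_singleton.1 huv
  have h1 := hu v (Submodule.mem_span_singleton_self v)
  rw [polar_smul_right, polar_self', smul_eq_mul] at h1
  rcases mul_eq_zero.1 h1 with h3 | h3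
  · rw [h3, zero_smul]
  · exact absurd h3 (mul_ne_zero h2 hv)

/-- `q` odd: the end -/
theorem resV_of_slo (hQ : Nondeg Q) (h2 : (2 : F) ≠ 0) {v : ι → F} (hv : Q v ≠ 0) {r k n d : ℕ} (hM : Mx hI X (F ∙ v) k)
    (hr : PP (Nat.card F) k r) (hk : 2 ≤ k) (hn : Fintype.card ι < 2 * k) {x : GL ι F} (hx : x ∈ preG eT X)
    (hxr : x ^ r = 1) (hx1 : x ≠ 1) (h6 : 6 ≤ Fintype.card ι) (hnn : Fintype.card ι = n + 1) (h9 : SLO Q (preG eT X) n d)
    (hd : ∀ s, s.Prime → s ∣ d → ¬ s ∣ n) : ResV hI X v := by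
  have hv0 : v ≠ 0 := by
    rintro rfl
    exact hv (QuadraticMap.map_zero Q)
  obtain ⟨hS, -⟩ := sec_perp hQ (preG_le (eT := eT) (X := X)) h2 hv hM.le
  have hfr : finrank F (perp Q (F ∙ v)) = n := by
    rw [finrank_perp hQ, Module.finrank_fintype_fun_eq_card, finrank_span_singleton hv0]; omega
  rcases h9 _ ⊥ hS hfr (by rw [finrank_bot]; omega) (by
    intro a ha
    rw [(Submodule.mem_bot F).1 ha, QuadraticMap.map_zero]) with h1 | ⟨s, hs, hsd, h1⟩ | h1
  · exact absurd h1 (perp_irr hQ h2 hv hM hr hk hn hx hxr hx1 hS)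
  · exfalso
    have h3 := h1.dvd_finrank
    rw [hfr] at h3
    exact hd s hs hsd h3
  · exact resV_odd h2 hv hM.fix h6 hS h1

/-- (F) PLUS, `m` even, `r_{2m-4} ∈ Y`, `r_{m-1} ∈ X` -/
theorem plus_two_b (h : Cx hI X Y p f m (2 * m - 2)) (hm : 6 ≤ m) (hme : Even m) (hP : IsPlus Q)
    {r2 r4 t t3 : ℕ} (hr2 : PP (Nat.card F) (2 * m - 2) r2) (hr4 : PP (Nat.card F) (2 * m - 4) r4)
    (ht : PP (Nat.card F) (m - 1) t) (ht3 : PP (Nat.card F) (m - 3) t3) (ho3 : ¬ t3 ∣ Nat.card (Cfsg.Out T))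
    (hX2 : r2 ∣ Nat.card (X.subgroupOf T)) (hY4 : r4 ∣ Nat.card (Y.subgroupOf T)) (hXt : t ∣ Nat.card (X.subgroupOf T))
    (h3 : t3 ∣ Nat.card (X.subgroupOf T) ∨ t3 ∣ Nat.card (Y.subgroupOf T))
    (hLX : Red (preG eT X) ∨ Ex2 (preG eT X))
    (hLY : t3 ∣ Nat.card (Y.subgroupOf T) → Red (preG eT Y) ∨ Ex2 (preG eT Y))
    (h9 : (2 : F) ≠ 0 → SLO Q (preG eT X) (2 * m - 1) 1)
    (h10 : (2 : F) = 0 → SLS Q (preG eT X) (2 * m - 2) (2 * m - 2)) : ∃ v, ResV hI X v := by
  have hQ : Nondeg Q := hG.nondeg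
  have hdim := h.dim
  have hfr := h.finrank_V
  have hm1 : Odd (m - 1) := Nat.Even.sub_odd (by omega) hme odd_one
  have hm3 : Odd (m - 3) := Nat.Even.sub_odd (by omega) hme ⟨1, rfl⟩
  have hXt' : t ∣ Nat.card (preG eT X) := hXt.trans card_dvd_preG
  have hred : Red (preG eT X) := by
    rcases hLX with h1 | ⟨K, hK, hle⟩
    · exact h1
    · exfalso
      rcases ext_odd hQ preG_le ht hm1 (by omega) (by omega) hXt' Nat.prime_two hK hle with h2 | h2
      · have := ht.lt (by omega); omega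
      · exact (Nat.not_even_iff_odd.2 hm1) (even_iff_two_dvd.2 h2)
  obtain ⟨x, hx, hiso, hxr, hx1⟩ := exists_elt (Q := Q) (preG_le (eT := eT) (X := X)) hr2 (by omega)
    (hX2.trans card_dvd_preG)
  obtain ⟨S, hM, hSx⟩ := exists_mx hI hr2 (by omega) (by omega) hx hxr hx1 hred
  obtain ⟨hcm, hfx, hpx⟩ := plus_fx_even hQ hfr (by omega) hP hr2 hiso hx1
  obtain ⟨y, hy, hiso', hyr, hy1⟩ := exists_elt (Q := Q) (preG_le (eT := eT) (X := X)) ht (by omega) hXt'
  obtain ⟨hfy, hpy⟩ := plus_fx_odd hQ hfr hm hme hP ht hiso' hy1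
  have hSd := Submodule.finrank_mono hSx
  have hSy : S ≤ fx (lin y) := hiso'.le_fx ht (inv_of_mem (hM.le hy)) (by omega)
  have hS1 : finrank F S = 1 := by
    have h1 : finrank F S ≠ 0 := fun h1 => hM.ne (Submodule.finrank_eq_zero.1 h1)
    by_contra h2
    have h4 : S = fx (lin x) := Submodule.eq_of_le_of_finrank_eq hSx (by omega)
    have h5 : S = fx (lin y) := Submodule.eq_of_le_of_finrank_eq hSy (by omega)
    rw [← h4] at hpx
    rw [← h5] at hpy
    exact hpx hpy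
  obtain ⟨v, hvS, hv0⟩ := Submodule.exists_mem_ne_zero_of_ne_bot hM.ne
  have hSv : S = F ∙ v := by
    symm
    apply Submodule.eq_of_le_of_finrank_eq
    · exact (Submodule.span_singleton_le_iff_mem v _).2 hvS
    · rw [finrank_span_singleton hv0, hS1]
  have hvx : v ∈ fx (lin x) := hSx hvS
  have hv : Q v ≠ 0 := fun h1 => hv0 (aniso_of_not_plus hfx hpx hvx h1)
  rw [hSv] at hM
  refine ⟨v, ?_⟩
  by_cases h2 : (2 : F) = 0
  · -- `q` even
    have hvv : polar Q v v = 0 := by rw [polar_self', h2, zero_mul]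
    obtain ⟨hS, hU⟩ := sec_line hQ (preG_le (eT := eT) (X := X)) hiso hfx hv0 hvv hvx hM.le
    have hirr := line_irr hQ hM hr2 (by omega) (by omega) hx hxr hx1 hiso hvx hS hU
    have hR1 : finrank F (F ∙ v) = 1 := finrank_span_singleton hv0
    refine resV_even h2 hv hM.fix (by omega) hiso hU hvx hS
      (sp_of_sls h2 hv hM (by omega) hU hS (by rw [hcm]; omega) hcm (h10 h2) hirr fun s hs hsd hA => ?_)
    rcases hs.eq_two_or_odd' with rfl | hso
    · have hd := hS.dvd ht (by omega) (by rw [hcm]; omega) (by rw [hR1]; omega) hXt'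
      exact H522.Rg.sp_not_two_odd h2 hS.nd hS.polar_eq ht hm1 (by omega) (by rw [hcm]; omega) hd hA
    · -- `s` odd
      have hs1 : s ∣ m - 1 := by
        have h4 : s ∣ 2 * (m - 1) := by
          have e : 2 * (m - 1) = 2 * m - 2 := by omega
          rw [e]; exact hsd
        exact (Nat.Coprime.dvd_of_dvd_mul_left ((Nat.coprime_primes hs Nat.prime_two).2 (by
          rintro rfl; exact absurd hso (by decide))) h4)
      by_cases hX3 : t3 ∣ Nat.card (X.subgroupOf T)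
      · have hd := hS.dvd ht3 (by omega) (by rw [hcm]; omega) (by rw [hR1]; omega) (hX3.trans card_dvd_preG)
        have := Fact.mk ht3.prime
        have hfin : Finite ((cm (lin x)) ≃ₗ[F] (cm (lin x))) := by
          have : Finite (cm (lin x)) := inferInstance
          exact Finite.of_injective (fun e : (cm (lin x)) ≃ₗ[F] (cm (lin x)) => (e : (cm (lin x)) → (cm (lin x))))
            DFunLike.coe_injective
        obtain ⟨z, hz⟩ := exists_prime_orderOf_dvd_card' t3 hd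
        have hzr : (z : (cm (lin x)) ≃ₗ[F] (cm (lin x))) ^ t3 = 1 := by
          rw [← Subgroup.coe_pow, ← hz, pow_orderOf_eq_one]; rfl
        have hz1 : (z : (cm (lin x)) ≃ₗ[F] (cm (lin x))) ≠ 1 := by
          intro h4
          have h5 : z = 1 := Subtype.ext h4
          rw [h5, orderOf_one] at hz
          exact ht3.prime.one_lt.ne hz
        have h4 := H522.Rg.fx_odd h2 hS.nd (hS.polar_eq _ z.2) ht3 hm3 (by omega) (by rw [hcm]; omega) hzr hz1
        rw [hcm] at h4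
        have h5 := ht3.two_mul_dvd (by omega) hm3
        have h6 := Nat.le_of_dvd (by have := ht3.prime.two_le; omega) h5
        have h7 := Nat.le_of_dvd (by omega) hs1
        have h8 := hA.dvd_fx z.2 ht3.prime hzr (by omega)
        have h9' : finrank F (fx ((z : (cm (lin x)) ≃ₗ[F] (cm (lin x))) : Module.End F (cm (lin x)))) = 4 := by omega
        rw [h9'] at h8
        have h10' : s ∣ 2 ^ 2 := h8
        have h11 := (Nat.prime_dvd_prime_iff_eq hs Nat.prime_two).1 (hs.dvd_of_dvd_pow h10')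
        rw [h11] at hso
        exact absurd hso (by decide)
      · have hY3 := h3.resolve_left hX3
        rcases hLY hY3 with h4 | ⟨K, hK, hle⟩
        · obtain ⟨z, hz, -, hzr, hz1⟩ := exists_elt (Q := Q) (preG_le (eT := eT) (X := Y)) hr4 (by omega)
            (hY4.trans card_dvd_preG)
          exact no_red hI h.fac hv0 hM.fix hr4 (by omega) (by omega) hz hzr hz1 h4
        · exact H623.Rg.kill_two (eT := eT) h.fac h.data hm3 (by omega) (by omega) (by rw [hdim]; exact even_two_mul m) ht3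
            ho3 hX3 hK hle
  · -- `q` odd
    refine resV_of_slo hQ h2 hv hM hr2 (by omega) (by omega) hx hxr hx1 (by omega) (by omega) (h9 h2) fun s hs hs1 => ?_
    exact absurd (Nat.dvd_one.1 hs1) hs.one_lt.ne'

end Cfsg.Agent.H119.Rg
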